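import Groth.Agent.GrSyzMin.FiniteLength

/-!
Vanishing of graded Betti numbers from degrees of generators of the iterated linear syzygy modules `T^i`.
-/

set_option autoImplicit false
set_option linter.unusedSectionVars false
universe u

open scoped Classical
open DirectSum Groth.Agent.GrSyzHilb Groth.Agent.GrSyzMin

noncomputable section

namespace Groth.Agent.GreenSyz

variable {k : Type u} [Field k] {n : ℕ}
variable {M : Type u} [AddCommGroup M] [Module k M] [Module (MvPolynomial (Fin n) k) M]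
  [IsScalarTower k (MvPolynomial (Fin n) k) M]

/-- the functions on words killed by contraction at every slot -/
def IsT (k : Type u) [Field k] {n : ℕ} {M : Type u} [AddCommGroup M] [Module (MvPolynomial (Fin n) k) M]
    (i : ℕ) (m : (Fin i → Fin n) → M) : Prop :=
  ∀ (s : Fin i) (c : Fin i → Fin n), ∑ v : Fin n, (MvPolynomial.X v : MvPolynomial (Fin n) k) • m (Function.update c s v) = 0

/-- `T^i` is generated in degrees `≤ j - p + i - 1` for all `i ≤ p`. -/
def Gen {k : Type u} [Field k] {n : ℕ} {M : Type u} [AddCommGroup M] [Module k M] [Module (MvPolynomial (Fin n) k) M]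
    (ℳ : ℤ → Submodule k M) (p : ℕ) (j : ℤ) : Prop :=
  ∀ i : ℕ, i ≤ p → ∀ m : (Fin i → Fin n) → M, IsT k i m →
    m ∈ Submodule.span (MvPolynomial (Fin n) k) {m' : (Fin i → Fin n) → M | IsT k i m' ∧
      ∃ e : ℤ, e ≤ j - (p : ℤ) + (i : ℤ) - 1 ∧ ∀ c : Fin i → Fin n, m' c ∈ ℳ (e - (i : ℤ))}

variable (k n M)

/-- multiplication by the variables -/
def mulVars : (Fin n → M) →ₗ[(MvPolynomial (Fin n) k)] M := ∑ v, (MvPolynomial.X v : (MvPolynomial (Fin n) k)) • LinearMap.proj v

variable {k n M}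

lemma mulVars_apply (m : Fin n → M) : mulVars k n M m = ∑ v, (MvPolynomial.X v : (MvPolynomial (Fin n) k)) • m v := by
  simp [mulVars, LinearMap.sum_apply]

lemma smul_mem_range {q : (MvPolynomial (Fin n) k)} (hq : q ∈ (GrSyz.irrel (GrSyz.stdGr k (Fin n))).toIdeal) (y : M) :
    q • y ∈ LinearMap.range (mulVars k n M) := by
  rw [← ofList_vars] at hq
  induction hq using Submodule.span_induction with
  | mem q hq =>
    obtain ⟨v, rfl⟩ := List.mem_ofFn.1 hq
    refine ⟨Pi.single v y, ?_⟩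
    rw [mulVars_apply, Finset.sum_eq_single v (fun w _ hw => by rw [Pi.single_eq_of_ne hw, smul_zero]) (by simp),
      Pi.single_eq_same]
  | zero => rw [zero_smul]; exact Submodule.zero_mem _
  | add a b _ _ ha hb => rw [add_smul]; exact Submodule.add_mem _ ha hb
  | smul a q _ hq => rw [smul_eq_mul, mul_smul]; exact Submodule.smul_mem _ a hq

variable (ℳ : ℤ → Submodule k M)

/-- the grading of `M(-1)^n` -/
def piGr (e : ℤ) : Submodule k (Fin n → M) := Submodule.pi Set.univ fun _ => ℳ (e - 1)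

variable {ℳ}

lemma mem_piGr {e : ℤ} {m : Fin n → M} : m ∈ piGr ℳ e ↔ ∀ v, m v ∈ ℳ (e - 1) := by simp [piGr, Submodule.mem_pi]

variable (ℳ) [DirectSum.Decomposition ℳ] [SetLike.GradedSMul (GrSyz.stdGr k (Fin n)) ℳ]

instance piGr_gradedSMul : SetLike.GradedSMul (GrSyz.stdGr k (Fin n)) (piGr (n := n) ℳ) :=
  ⟨fun {d e p m} hp hm => mem_piGr.2 fun v => by
    have := SetLike.GradedSMul.smul_mem (A := GrSyz.stdGr k (Fin n)) (B := ℳ) hp (mem_piGr.1 hm v)
    rw [vadd_eq_add] at this ⊢
    rw [add_sub_assoc]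
    exact this⟩

lemma comp_coe_piGr (w : ⨁ e, piGr (n := n) ℳ e) (e : ℤ) (v : Fin n) :
    comp ℳ (e - 1) ((DirectSum.coeLinearMap (piGr (n := n) ℳ) w) v) = (w e : Fin n → M) v := by
  induction w using DirectSum.induction_on with
  | zero => simp
  | of j x =>
    rw [DirectSum.coeLinearMap_of]
    by_cases h : j = e
    · subst h
      rw [comp_of_mem ℳ (mem_piGr.1 x.2 v), DirectSum.of_eq_same]
    · rw [comp_of_mem_ne ℳ (mem_piGr.1 x.2 v) (by omega), DirectSum.of_eq_of_ne _ _ _ (Ne.symm h)]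
      rfl
  | add a b ha hb => simp only [map_add, Pi.add_apply, DirectSum.add_apply, Submodule.coe_add, ha, hb]

/-- the decomposition of `M(-1)^n` -/
instance piDec : DirectSum.Decomposition (piGr (n := n) ℳ) := by
  refine DirectSum.IsInternal.chooseDecomposition _ ⟨fun a b h => ?_, fun z => ?_⟩
  · refine DFinsupp.ext fun e => Subtype.ext (funext fun v => ?_)
    rw [← comp_coe_piGr ℳ a e v, ← comp_coe_piGr ℳ b e v]
    exact congrArg (fun z : Fin n → M => comp ℳ (e - 1) (z v)) h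
  · change z ∈ AddMonoidHom.mrange (DirectSum.coeAddMonoidHom (piGr (n := n) ℳ))
    rw [← Finset.univ_sum_single z]
    refine AddSubmonoid.sum_mem _ fun v _ => ?_
    generalize z v = x
    induction x using DirectSum.Decomposition.inductionOn ℳ with
    | zero => rw [Pi.single_zero]; exact AddSubmonoid.zero_mem _
    | @homogeneous j y =>
      refine ⟨DirectSum.of (fun e => piGr (n := n) ℳ e) (j + 1) ⟨Pi.single v y, mem_piGr.2 fun w => ?_⟩, ?_⟩
      · rw [add_sub_cancel_right]
        by_cases hw : w = v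
        · subst hw; rw [Pi.single_eq_same]; exact y.2
        · rw [Pi.single_eq_of_ne hw]; exact Submodule.zero_mem _
      · rw [DirectSum.coeAddMonoidHom_of]
    | add a b ha hb => rw [Pi.single_add]; exact AddSubmonoid.add_mem _ ha hb

lemma mulVars_mem {e : ℤ} {m : Fin n → M} (hm : m ∈ piGr (n := n) ℳ e) : mulVars k n M m ∈ ℳ e := by
  rw [mulVars_apply]
  refine Submodule.sum_mem _ fun v _ => ?_
  have := SetLike.GradedSMul.smul_mem (A := GrSyz.stdGr k (Fin n)) (B := ℳ) (X_mem v) (mem_piGr.1 hm v)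
  rwa [vadd_eq_add, add_sub_cancel] at this

lemma homog_range : Homog ℳ (LinearMap.range (mulVars k n M)) := by
  rintro _ ⟨m, rfl⟩ e
  refine ⟨fun v => comp ℳ (e - 1) (m v), ?_⟩
  rw [mulVars_apply, mulVars_apply, map_sum]
  exact Finset.sum_congr rfl fun v _ => (comp_smul ℳ (X_mem v) _ _).symm

lemma C_mem (a : k) : (MvPolynomial.C a : (MvPolynomial (Fin n) k)) ∈ GrSyz.stdGr k (Fin n) 0 :=
  MvPolynomial.isWeightedHomogeneous_C _ a

lemma comp_mem_range {d : ℤ} {x : M} (hx : x ∈ Submodule.span (MvPolynomial (Fin n) k) {y : M | ∃ e, e ≤ d ∧ y ∈ ℳ e}) :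
    ∀ e, d < e → comp ℳ e x ∈ LinearMap.range (mulVars k n M) := by
  induction hx using Submodule.span_induction with
  | mem y hy =>
    obtain ⟨e', he', hy⟩ := hy
    intro e he
    rw [comp_of_mem_ne ℳ hy (by omega)]
    exact Submodule.zero_mem _
  | zero => exact fun e _ => by rw [map_zero]; exact Submodule.zero_mem _
  | add a b _ _ ha hb => exact fun e he => by rw [map_add]; exact Submodule.add_mem _ (ha e he) (hb e he)
  | smul p a _ ha =>
    intro e he
    have h1 : p • a = (MvPolynomial.C (MvPolynomial.constantCoeff p) : (MvPolynomial (Fin n) k)) • a + (p - MvPolynomial.C (MvPolynomial.constantCoeff p)) • a := by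
      rw [← add_smul, add_sub_cancel]
    rw [h1, map_add, comp_smul ℳ (C_mem _)]
    refine Submodule.add_mem _ (Submodule.smul_mem _ _ (by rw [sub_zero]; exact ha e he))
      (homog_range ℳ _ (smul_mem_range (mem_irrel_iff.2 (by simp)) a) e)

variable {ℳ}

lemma gen_zero_span {p : ℕ} {j : ℤ} (h : Gen (n := n) ℳ p j) (x : M) :
    x ∈ Submodule.span (MvPolynomial (Fin n) k) {y : M | ∃ e, e ≤ j - (p : ℤ) - 1 ∧ y ∈ ℳ e} := by
  have h0 := Submodule.apply_mem_span_image_of_mem_span (LinearMap.proj (R := (MvPolynomial (Fin n) k)) (φ := fun _ : Fin 0 → Fin n => M) Fin.elim0)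
    (h 0 (Nat.zero_le p) (fun _ => x) (fun s => Fin.elim0 s))
  refine Submodule.span_mono ?_ h0
  rintro _ ⟨m', ⟨-, e, he, hm'⟩, rfl⟩
  exact ⟨e, by simpa using he, by simpa using hm' Fin.elim0⟩

lemma isRegLE_quot [Module.Finite (MvPolynomial (Fin n) k) M] {p : ℕ} {j : ℤ} (h : Gen (n := n) ℳ p j) :
    letI := quotDec ℳ (LinearMap.range (mulVars k n M)) (homog_range ℳ)
    GrSyz.IsRegLE (GrSyz.stdGr k (Fin n)) (quotGr ℳ (LinearMap.range (mulVars k n M)))
      (GrSyz.irrel (GrSyz.stdGr k (Fin n))).toIdeal (j - (p : ℤ) - 1) := by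
  letI := quotDec ℳ (LinearMap.range (mulVars k n M)) (homog_range ℳ)
  refine isRegLE_of_bound _ _ fun e he => eq_bot_iff.2 ?_
  rintro _ ⟨x, hx, rfl⟩
  refine (Submodule.mem_bot _).2 ((Submodule.Quotient.mk_eq_zero _).2 ?_)
  have := comp_mem_range ℳ (gen_zero_span h x) e he
  rwa [comp_of_mem ℳ hx] at this

/-- The linear syzygies. -/
abbrev T1 (k : Type u) [Field k] (n : ℕ) (M : Type u) [AddCommGroup M] [Module (MvPolynomial (Fin n) k) M] :
    Submodule (MvPolynomial (Fin n) k) (Fin n → M) := LinearMap.ker (mulVars k n M)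

lemma homog_T1 : Homog (piGr (n := n) ℳ) (T1 k n M) :=
  homog_ker_map (mulVars k n M) fun _ _ hm => mulVars_mem ℳ hm

lemma gen_T1 {p : ℕ} {j : ℤ} (h : Gen (n := n) ℳ (p + 1) j) :
    Gen (n := n) (subGr (piGr (n := n) ℳ) (T1 k n M)) p j := by
  intro i hi m hm
  let U : ((Fin (i + 1) → Fin n) → M) →ₗ[(MvPolynomial (Fin n) k)] ((Fin i → Fin n) → (Fin n → M)) :=
    LinearMap.pi fun c => LinearMap.pi fun v => LinearMap.proj (Fin.cons v c)
  let V : ((Fin i → Fin n) → T1 k n M) →ₗ[(MvPolynomial (Fin n) k)] ((Fin i → Fin n) → (Fin n → M)) := (T1 k n M).subtype.compLeft _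
  have hV : Function.Injective V := fun a b hab => funext fun c => Subtype.ext (congrFun hab c)
  let M1 : (Fin (i + 1) → Fin n) → M := fun c => (m (Fin.tail c) : Fin n → M) (c 0)
  have hM1 : IsT k (i + 1) M1 := by
    intro s c
    induction s using Fin.cases with
    | zero =>
      have h2 : ∑ v, (MvPolynomial.X v : (MvPolynomial (Fin n) k)) • (m (Fin.tail c) : Fin n → M) v = 0 := by
        rw [← mulVars_apply]
        exact (m (Fin.tail c)).2
      simpa [M1, Fin.tail_update_zero] using h2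
    | succ s =>
      have h2 := congrArg (fun z : T1 k n M => (z : Fin n → M) (c 0)) (hm s (Fin.tail c))
      simp only [Submodule.coe_sum, Finset.sum_apply, Submodule.coe_smul, Pi.smul_apply, Submodule.coe_zero,
        Pi.zero_apply] at h2
      have h0 : ∀ v, Function.update c s.succ v 0 = c 0 := fun v =>
        Function.update_of_ne (Fin.succ_ne_zero s).symm v c
      simpa only [M1, Fin.tail_update_succ, h0] using h2
  have key : V m ∈ Submodule.span (MvPolynomial (Fin n) k) (V '' {m' : (Fin i → Fin n) → T1 k n M | IsT k i m' ∧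
      ∃ e : ℤ, e ≤ j - (p : ℤ) + (i : ℤ) - 1 ∧ ∀ c, m' c ∈ subGr (piGr (n := n) ℳ) (T1 k n M) (e - (i : ℤ))}) := by
    have e1 : V m = U M1 := by
      funext c v
      simp [U, V, M1]
    rw [e1]
    refine Submodule.span_mono ?_ (Submodule.apply_mem_span_image_of_mem_span U (h (i + 1) (by omega) M1 hM1))
    rintro _ ⟨m', ⟨hm', e, he, hdeg⟩, rfl⟩
    have hker : ∀ c : Fin i → Fin n, (fun v => m' (Fin.cons v c)) ∈ T1 k n M := fun c => by
      rw [LinearMap.mem_ker, mulVars_apply]
      rcases isEmpty_or_nonempty (Fin n) with hn | ⟨⟨v0⟩⟩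
      · simp
      · simpa [Fin.update_cons_zero] using hm' 0 (Fin.cons v0 c)
    refine ⟨fun c => ⟨_, hker c⟩, ⟨fun s c => Subtype.ext (funext fun w => ?_), e, by push_cast at he; omega, fun c => ?_⟩, rfl⟩
    · simpa [Submodule.coe_sum, Finset.sum_apply, ← Fin.cons_update] using hm' s.succ (Fin.cons w c)
    · refine mem_subGr.2 (mem_piGr.2 fun v => ?_)
      have := hdeg (Fin.cons v c)
      rwa [Nat.cast_succ, ← sub_sub] at this
  rw [← Submodule.map_span] at key
  obtain ⟨m2, hm2, he⟩ := key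
  exact hV he ▸ hm2

lemma bar_smul_X {l m : ℕ} (v : Fin n) (A : Matrix (Fin m) (Fin l) (MvPolynomial (Fin n) k)) (x : Fin l → k) :
    bar ((MvPolynomial.X v : (MvPolynomial (Fin n) k)) • A) x = 0 :=
  bar_eq_zero (fun a b => by simp) x

lemma hmat_smul_X {l m : ℕ} {s : Fin l → ℤ} {t : Fin m → ℤ} (v : Fin n) {A : Matrix (Fin m) (Fin l) (MvPolynomial (Fin n) k)}
    (hA : HMat (fun b => s b + (-1)) t A) : HMat s t ((MvPolynomial.X v : (MvPolynomial (Fin n) k)) • A) := fun a b => by
  have h1 : (MvPolynomial.X v : (MvPolynomial (Fin n) k)) * A a b ∈ GrSyz.stdGr k (Fin n) (1 + (s b + (-1) - t a)) :=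
    SetLike.mul_mem_graded (X_mem v) (hA a b)
  rwa [show (1 : ℤ) + (s b + (-1) - t a) = s b - t a from by omega] at h1

lemma bar_sum {ι : Type*} (s : Finset ι) {l m : ℕ} (A : ι → Matrix (Fin m) (Fin l) (MvPolynomial (Fin n) k)) (x : Fin l → k) :
    bar (∑ i ∈ s, A i) x = ∑ i ∈ s, bar (A i) x := by
  induction s using Finset.induction_on with
  | empty => simp [bar_zero]
  | insert a s ha ih => rw [Finset.sum_insert ha, Finset.sum_insert ha, bar_add, ih]

section Comp

variable {N : Type u} [AddCommGroup N] [Module k N] [Module (MvPolynomial (Fin n) k) N] [IsScalarTower k (MvPolynomial (Fin n) k) N]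
  {𝒩 : ℤ → Submodule k N} [DirectSum.Decomposition 𝒩] [SetLike.GradedSMul (GrSyz.stdGr k (Fin n)) 𝒩]
variable {P : Type u} [AddCommGroup P] [Module k P] [Module (MvPolynomial (Fin n) k) P] [IsScalarTower k (MvPolynomial (Fin n) k) P]
  {𝒬 : ℤ → Submodule k P} [DirectSum.Decomposition 𝒬] [SetLike.GradedSMul (GrSyz.stdGr k (Fin n)) 𝒬]
variable {F : GrSyz.FreeRes (GrSyz.stdGr k (Fin n)) ℳ} {G : GrSyz.FreeRes (GrSyz.stdGr k (Fin n)) 𝒩}
  {H : GrSyz.FreeRes (GrSyz.stdGr k (Fin n)) 𝒬}

/-- composition of maps of resolutions -/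
def ccomp {f : M →ₗ[(MvPolynomial (Fin n) k)] N} {g : N →ₗ[(MvPolynomial (Fin n) k)] P} (φ : CMap F G f 0) (ψ : CMap G H g 0) : CMap F H (g.comp f) 0 where
  φ i := ψ.φ i * φ.φ i
  hom i := by
    have h1 := φ.hom i
    have h2 := ψ.hom i
    simp only [add_zero] at h1 h2 ⊢
    exact h2.mul h1
  aug b := by
    rw [← mulVec_col, augLin_mulVec G H (ψ.φ 0) ψ.aug, φ.aug]
    rfl
  comm i := by rw [← Matrix.mul_assoc, ψ.comm, Matrix.mul_assoc, φ.comm, Matrix.mul_assoc]

end Comp

section Incl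

variable {N : Type u} [AddCommGroup N] [Module k N] [Module (MvPolynomial (Fin n) k) N] [IsScalarTower k (MvPolynomial (Fin n) k) N]
  {𝒩 : ℤ → Submodule k N} [DirectSum.Decomposition 𝒩] [SetLike.GradedSMul (GrSyz.stdGr k (Fin n)) 𝒩]
variable {C : Type u} [AddCommGroup C] [Module k C] [Module (MvPolynomial (Fin n) k) C] [IsScalarTower k (MvPolynomial (Fin n) k) C]
  {𝒞 : ℤ → Submodule k C} [DirectSum.Decomposition 𝒞] [SetLike.GradedSMul (GrSyz.stdGr k (Fin n)) 𝒞]
variable {F : GrSyz.FreeRes (GrSyz.stdGr k (Fin n)) ℳ} {G : GrSyz.FreeRes (GrSyz.stdGr k (Fin n)) 𝒩}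
  {f : M →ₗ[(MvPolynomial (Fin n) k)] N} {δ : ℤ} (φ : CMap F G f δ) (g : N →ₗ[(MvPolynomial (Fin n) k)] C)
  (hf : Function.Injective f) (hg : Function.Surjective g) (hfg : LinearMap.range f = LinearMap.ker g)
  (hgr : ∀ (e : ℤ) (x : N), x ∈ 𝒩 e → g x ∈ 𝒞 e)

/-- matrices of the inclusion in the cone -/
def inclMat : (i : ℕ) → Matrix (Fin (coneRk F G i)) (Fin (G.rk i)) (MvPolynomial (Fin n) k)
  | 0 => (1 : Matrix (Fin (G.rk 0)) (Fin (G.rk 0)) (MvPolynomial (Fin n) k))
  | i + 1 => vcat 1 0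

lemma inclMat_mulVec (i : ℕ) (y : Fin (G.rk (i + 1)) → (MvPolynomial (Fin n) k)) :
    Matrix.mulVec (inclMat (F := F) (G := G) (i + 1)) y = Fin.append y 0 := by
  show Matrix.mulVec (vcat 1 0) y = _
  rw [vcat_mulVec, Matrix.one_mulVec, Matrix.zero_mulVec]

lemma inclMat_hom : ∀ i : ℕ, HMat (G.deg i) (coneDeg F G δ i) (inclMat (F := F) (G := G) i)
  | 0 => HMat.one (G.deg 0)
  | i + 1 => hmat_vcat (HMat.one (G.deg (i + 1))) (hmat_zero (G.deg (i + 1)) (fun b => F.deg i b + δ))

lemma inclMat_comm (i : ℕ) : coneD φ i * inclMat (F := F) (G := G) (i + 1) = inclMat (F := F) (G := G) i * G.d i := by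
  refine Matrix.ext_iff_mulVec.2 fun y => ?_
  rw [← Matrix.mulVec_mulVec, inclMat_mulVec]
  cases i with
  | zero =>
    show Matrix.mulVec (hcat (G.d 0) (φ.φ 0)) (Fin.append y 0) =
      Matrix.mulVec ((1 : Matrix (Fin (G.rk 0)) (Fin (G.rk 0)) (MvPolynomial (Fin n) k)) * G.d 0) y
    rw [Matrix.one_mul, hcat_mulVec, Matrix.mulVec_zero, add_zero]
  | succ i =>
    rw [coneD_succ_mulVec, ← Matrix.mulVec_mulVec, inclMat_mulVec, Matrix.mulVec_zero, Matrix.mulVec_zero,
      add_zero, neg_zero]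

/-- inclusion of the resolution of the middle term in the cone -/
def incl : CMap G (cone φ g hf hg hfg hgr) g 0 where
  φ := inclMat (F := F) (G := G)
  hom i := fun a b => by
    show inclMat (F := F) (G := G) i a b ∈ GrSyz.stdGr k (Fin n) (G.deg i b + 0 - coneDeg F G δ i a)
    rw [add_zero]
    exact inclMat_hom (F := F) (G := G) (δ := δ) i a b
  aug b := by
    have h1 : (fun a => (1 : Matrix (Fin (G.rk 0)) (Fin (G.rk 0)) (MvPolynomial (Fin n) k)) a b) = Pi.single b 1 :=
      funext fun a => by by_cases h : a = b <;> simp [Matrix.one_apply, Pi.single_apply, h]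
    have h2 := (Fintype.linearCombination_apply_single (MvPolynomial (Fin n) k) (fun b : Fin (G.rk 0) => g (G.aug b)) b 1).trans (one_smul _ _)
    exact (congrArg (Fintype.linearCombination (MvPolynomial (Fin n) k) (fun b : Fin (G.rk 0) => g (G.aug b))) h1).trans h2
  comm i := inclMat_comm φ i

lemma bar_inclMat (i : ℕ) (y : Fin (G.rk (i + 1)) → k) :
    bar (inclMat (F := F) (G := G) (i + 1)) y = Fin.append y 0 :=
  (bar_vcat _ _ y).trans (by rw [bar_one, bar_zero])

end Incl

theorem main : ∀ (p : ℕ) {M : Type u} [AddCommGroup M] [Module k M] [Module (MvPolynomial (Fin n) k) M]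
    [IsScalarTower k (MvPolynomial (Fin n) k) M] [Module.Finite (MvPolynomial (Fin n) k) M]
    (ℳ : ℤ → Submodule k M) [DirectSum.Decomposition ℳ] [SetLike.GradedSMul (GrSyz.stdGr k (Fin n)) ℳ]
    (j : ℤ), Gen (n := n) ℳ p j → ∀ F : GrSyz.FreeRes (GrSyz.stdGr k (Fin n)) ℳ,
      F.IsMinimal (GrSyz.irrel (GrSyz.stdGr k (Fin n))).toIdeal → ∀ b, F.deg p b ≠ j := by
  intro p
  induction p with
  | zero =>
    intro M _ _ _ _ _ ℳ _ _ j h F hF b hb
    refine (irred_of_isMinimal hF).1 b ?_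
    refine Submodule.span_le.2 ?_ (gen_zero_span h (F.aug b))
    rintro y ⟨e, he, hy⟩
    obtain ⟨w, rfl⟩ := F.aug_surjective y
    obtain ⟨v, hv, hv'⟩ := exists_lift (n := n) ℳ F.aug_mem hy ⟨w, rfl⟩
    rw [SetLike.mem_coe, ← hv', Fintype.linearCombination_apply]
    refine Submodule.sum_mem _ fun c _ => ?_
    by_cases hc : c = b
    · rw [eq_zero_of_deg_neg (by subst hc; push_cast at he; omega) ((mem_vec _).1 hv c), zero_smul]
      exact Submodule.zero_mem _
    · exact Submodule.smul_mem _ _ (Submodule.subset_span ⟨c, hc, rfl⟩)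
  | succ p ih =>
    intro M _ _ _ _ _ ℳ _ _ j h F hF
    let K := LinearMap.range (mulVars k n M)
    letI := subDec ℳ K (homog_range ℳ)
    letI := quotDec ℳ K (homog_range ℳ)
    letI := subDec (piGr (n := n) ℳ) (T1 k n M) (homog_T1 (ℳ := ℳ))
    haveI : Module.Finite (MvPolynomial (Fin n) k) (Fin n → M) := Module.Finite.pi
    haveI : Module.Finite (MvPolynomial (Fin n) k) K := Module.Finite.iff_fg.2 (IsNoetherian.noetherian K)
    haveI : Module.Finite (MvPolynomial (Fin n) k) (T1 k n M) := Module.Finite.iff_fg.2 (IsNoetherian.noetherian _)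
    obtain ⟨H, hH⟩ := exists_minimal (n := n) (subGr ℳ K)
    obtain ⟨Q, hQ⟩ := exists_minimal (n := n) (quotGr ℳ K)
    obtain ⟨G, hG⟩ := exists_minimal (n := n) (piGr (n := n) ℳ)
    obtain ⟨F1, hF1⟩ := exists_minimal (n := n) (subGr (piGr (n := n) ℳ) (T1 k n M))
    obtain ⟨A⟩ := exists_cmap H F 0 K.subtype (fun e x hx => by rw [add_zero]; exact hx)
    obtain ⟨φ⟩ := exists_cmap F1 G 0 (T1 k n M).subtype (fun e x hx => by rw [add_zero]; exact hx)
    let Ψ : (Fin n → M) →ₗ[(MvPolynomial (Fin n) k)] K := (mulVars k n M).rangeRestrict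
    have hΨ : Function.Surjective Ψ := (mulVars k n M).surjective_rangeRestrict
    have hΨk : LinearMap.range (T1 k n M).subtype = LinearMap.ker Ψ := by
      rw [Submodule.range_subtype, LinearMap.ker_rangeRestrict]
    let C1 := cone φ Ψ (T1 k n M).injective_subtype hΨ hΨk
      (fun e x hx => mem_subGr.2 (mulVars_mem ℳ hx) : ∀ (e : ℤ) (x : Fin n → M), x ∈ piGr ℳ e → Ψ x ∈ subGr ℳ K e)
    obtain ⟨B1⟩ := exists_cmap H C1 0 LinearMap.id (fun e x hx => by rw [add_zero]; exact hx)
    obtain ⟨B2⟩ := exists_cmap C1 H 0 LinearMap.id (fun e x hx => by rw [add_zero]; exact hx)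
    let ι : CMap G C1 Ψ 0 := incl φ Ψ (T1 k n M).injective_subtype hΨ hΨk (fun e x hx => mem_subGr.2 (mulVars_mem ℳ hx))
    let τ := ccomp (ccomp ι B2) A
    have hπ : ∀ v, GrLC.IsGrHomDeg (piGr (n := n) ℳ) ℳ (LinearMap.proj v : (Fin n → M) →ₗ[(MvPolynomial (Fin n) k)] M) (-1) :=
      fun v e x hx => mem_piGr.1 hx v
    let π := fun v => (exists_cmap G F (-1) _ (hπ v)).some
    let χ : CMap G F (0 : (Fin n → M) →ₗ[(MvPolynomial (Fin n) k)] M) 0 :=
      { φ := fun i => τ.φ i - ∑ v, (MvPolynomial.X v : (MvPolynomial (Fin n) k)) • (π v).φ i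
        hom := fun i => (τ.hom i).sub (fun a b => by
          rw [Matrix.sum_apply]
          exact Submodule.sum_mem _ fun v _ => by simpa using hmat_smul_X v (by simpa using (π v).hom i) a b)
        aug := fun b => by
          have e1 : (fun a => (τ.φ 0 - ∑ v, (MvPolynomial.X v : (MvPolynomial (Fin n) k)) • (π v).φ 0) a b) =
              (fun a => τ.φ 0 a b) - ∑ v, (MvPolynomial.X v : (MvPolynomial (Fin n) k)) • (fun a => (π v).φ 0 a b) := by
            funext a
            simp [Matrix.sum_apply, Finset.sum_apply]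
          rw [e1, map_sub, map_sum, τ.aug]
          simp_rw [map_smul, (π _).aug]
          exact sub_eq_zero.2 (mulVars_apply (G.aug b))
        comm := fun i => by
          simp only [Matrix.mul_sub, Matrix.sub_mul, Matrix.mul_sum, Matrix.sum_mul, Matrix.mul_smul,
            Matrix.smul_mul, τ.comm, (π _).comm] }
    obtain ⟨h', -, -, hh'⟩ := exists_null G F 0 χ rfl
    refine fun b => not_mem_deg_of_supp (k := k) (fun x hx => ?_) b
    have hQv : ∀ c, Q.deg (p + 1) c ≠ j := fun c => by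
      have := (isRegLE_iff_isGenLE hQ _).1 (isRegLE_quot h) (p + 1) c
      push_cast at this ⊢
      omega
    obtain ⟨x', hx', rfl⟩ := exists_preimage_of_van_cone (g := K.mkQ) (i := p + 1) (j := j) A K.injective_subtype
      K.mkQ_surjective (by rw [Submodule.range_subtype, Submodule.ker_mkQ]) (fun e x hx => mk_mem_quotGr hx) hF
      ((van_congr Q _ (p + 1) _).1 (van_of_deg (F := Q) _ _ (by simpa using hQv)))
      (by simpa using hx)
    have hr := roundtrip B1 B2 (show x' ∈ Z H (p + 1) j by rw [Z_eq_of_minimal hH]; exact hx')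
    rw [B_eq_of_minimal hH, Submodule.mem_bot, sub_eq_zero] at hr
    have hy := B1.bar_mem hx'
    obtain ⟨y, w, hyw⟩ : ∃ y w, bar (B1.φ (p + 1)) x' = Fin.append y w :=
      ⟨_, _, append_split (p := G.rk (p + 1)) (q := F1.rk p) _⟩
    rw [hyw] at hy hr
    have hw : w = 0 := supp_eq_bot (fun c => by simpa using ih _ j (gen_T1 h) F1 hF1 c)
      ((append_mem_supp (d := G.deg (p + 1)) (e := fun b => F1.deg p b + 0)).1 hy).2
    subst hw
    have key : bar (χ.φ (p + 1)) y = 0 := by
      rw [hh', bar_add, bar_mul, bar_mul, bar_eq_zero (isMinimal_iff.1 hF (p + 1)),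
        bar_eq_zero (isMinimal_iff.1 hG p), map_zero, add_zero]
    simp only [χ, bar_sub, bar_sum, bar_smul_X, Finset.sum_const_zero, sub_zero] at key
    rw [← hr, ← key]
    simp only [τ, ι, ccomp, incl, bar_mul]
    exact congrArg _ (congrArg _ (bar_inclMat (F := F1) (G := G) p y).symm)

end Groth.Agent.GreenSyz
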